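import Groth.Agent.CurveLuroth.Line
import Groth.Agent.CurveRes.Basic
import Groth.Agent.CurveBC.FiniteDim
import Mathlib.AlgebraicGeometry.Morphisms.SchemeTheoreticallyDominant

/-!
# Rational curves are images of the projective line
-/

set_option autoImplicit false
set_option linter.style.haveILetI false
set_option linter.unusedSectionVars false
set_option maxHeartbeats 1000000
set_option synthInstance.maxHeartbeats 400000
set_option backward.isDefEq.respectTransparency false
set_option backward.isDefEq.respectTransparency.types false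

universe u

open CategoryTheory CategoryTheory.Limits AlgebraicGeometry TopologicalSpace Opposite

noncomputable section

namespace Groth.Agent.RatCurveImg

open Groth.Agent

variable (k : Type u) [Field k] {C : Scheme.{u}} [IsIntegral C] (f : C ⟶ Spec (CommRingCat.of k)) [IsProper f]

theorem valuationRing_line (y : CohB1.ProjSpace 1 k) :
    letI := H23.PnChart.isIntegral_projSpace 1 k
    ValuationRing ((CohB1.ProjSpace 1 k).presheaf.stalk y) := by
  letI := H23.PnChart.isIntegral_projSpace 1 k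
  letI : (CohB1.ProjSpace 1 k).Over (Spec (CommRingCat.of k)) := ⟨CohB1.ProjSpace.toSpec 1 k⟩
  haveI : IsProper ((CohB1.ProjSpace 1 k) ↘ Spec (CommRingCat.of k)) := PnCoh.Chow.isProper_toSpec 1 k
  have hP : topologicalKrullDim ↥(CohB1.ProjSpace 1 k) = 1 := by simpa using S10829.result k 1
  have hs : Smooth ((CohB1.ProjSpace 1 k) ↘ Spec (CommRingCat.of k)) := CurveEmbed.smooth_toSpec 1 k
  refine CurveLuroth.valuationRing_stalk (k := k) hP (fun z hz => CurveEmbed.isIntegrallyClosed_of_smooth k hP hz ?_) y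
  rw [(Scheme.Hom.smoothLocus_eq_top_iff (f := (CohB1.ProjSpace 1 k) ↘ Spec (CommRingCat.of k))).2 hs]
  trivial

/-- A rational curve is dominated by the projective line. -/
theorem exists_dominant (U : C.Opens) (V : (CohB1.ProjSpace 1 k).Opens) (e : (↑U : Scheme.{u}) ≅ ↑V)
    (hU : Nonempty U) (he : e.hom ≫ V.ι ≫ CohB1.ProjSpace.toSpec 1 k = U.ι ≫ f) :
    ∃ H : CohB1.ProjSpace 1 k ⟶ C, H ≫ f = CohB1.ProjSpace.toSpec 1 k ∧ IsDominant H := by
  letI := H23.PnChart.isIntegral_projSpace 1 k
  haveI : C.IsSeparated := ⟨by rw [← Limits.terminal.comp_from f]; infer_instance⟩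
  have hV : Nonempty V := hU.map e.hom
  have hη : genericPoint (CohB1.ProjSpace 1 k) ∈ V := H23.RatExtend.genericPoint_mem V hV.some.2
  let g : V.toScheme ⟶ C := e.inv ≫ U.ι
  have hgf : g ≫ f = V.ι ≫ CohB1.ProjSpace.toSpec 1 k := by
    rw [Category.assoc, ← he, e.inv_hom_id_assoc]
  let φ₀ := V.fromSpecStalkOfMem _ hη ≫ g
  have h₀ : φ₀ ≫ f = (CohB1.ProjSpace 1 k).fromSpecStalk _ ≫ CohB1.ProjSpace.toSpec 1 k := by
    rw [Category.assoc, hgf, Scheme.Opens.fromSpecStalkOfMem_ι_assoc]
  obtain ⟨W, hW, H, hsub, hH, hH'⟩ := H23.RatExtend.extend (CohB1.ProjSpace.toSpec 1 k) f φ₀ h₀ Set.univ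
    fun p _ => H23.RatExtend.exists_lift _ f φ₀ h₀ p (valuationRing_line k p)
  haveI : IsIso W.ι := by
    have : Surjective W.ι := ⟨fun y => ⟨⟨y, hsub trivial⟩, rfl⟩⟩
    exact (isIso_iff_isOpenImmersion_and_surjective _).2 ⟨inferInstance, this⟩
  refine ⟨inv W.ι ≫ H, by rw [Category.assoc, hH, IsIso.inv_hom_id_assoc], ?_⟩
  have hd : IsDominant φ₀ := by
    haveI : IsDominant (V.fromSpecStalkOfMem _ hη) := H23.RatExtend.isDominant_fromSpecStalkOfMem V hη
    haveI : IsDominant U.ι := ⟨by
      rw [DenseRange, Scheme.Opens.range_ι]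
      exact U.isOpen.dense ⟨_, hU.some.2⟩⟩
    haveI : IsDominant g := inferInstance
    infer_instance
  haveI : IsDominant H := by
    rw [← hH'] at hd
    exact IsDominant.of_comp (W.fromSpecStalkOfMem _ hW) H
  infer_instance

/-- A curve dominated by the projective line has an open isomorphic to an open of the line. -/
theorem exists_open_iso (hdim : topologicalKrullDim C = 1) (H : CohB1.ProjSpace 1 k ⟶ C)
    (hH : H ≫ f = CohB1.ProjSpace.toSpec 1 k) [IsDominant H] :
    ∃ (U : C.Opens) (V : (CohB1.ProjSpace 1 k).Opens) (e : (↑U : Scheme.{u}) ≅ ↑V),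
      Nonempty U ∧ e.hom ≫ V.ι ≫ CohB1.ProjSpace.toSpec 1 k = U.ι ≫ f := by
  letI := H23.PnChart.isIntegral_projSpace 1 k
  haveI : IsLocallyNoetherian C := LocallyOfFiniteType.isLocallyNoetherian f
  haveI : C.IsSeparated := ⟨by rw [← Limits.terminal.comp_from f]; infer_instance⟩
  haveI : IsProper (CohB1.ProjSpace.toSpec 1 k) := PnCoh.Chow.isProper_toSpec 1 k
  haveI : IsProper (H ≫ f) := by rw [hH]; infer_instance
  haveI : IsProper H := IsProper.of_comp H f
  haveI : IsFinite (Curv2.normalizationι C) :=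
    CurveRes.isFinite_of_proper C H fun w => haveI := valuationRing_line k w; inferInstance
  obtain ⟨U, hU, hiso⟩ := CurveRes.exists_isIso_of_isFinite C
  let N := Curv2.normalization C
  let ν : N ⟶ C := Curv2.normalizationι C
  haveI : IsIntegral N := inferInstanceAs (IsIntegral (C.fromSpecStalk (genericPoint C)).normalization)
  haveI : IsDominant ν := by
    haveI : IsDominant (C.fromSpecStalk (genericPoint C)) := H23.RatExtend.isDominant_fromSpecStalk (X := C)
    haveI : IsDominant ((C.fromSpecStalk (genericPoint C)).toNormalization ≫ ν) := by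
      rw [show (C.fromSpecStalk (genericPoint C)).toNormalization ≫ ν = C.fromSpecStalk (genericPoint C) from
        Scheme.Hom.toNormalization_fromNormalization _]
      infer_instance
    exact IsDominant.of_comp (C.fromSpecStalk (genericPoint C)).toNormalization ν
  haveI : Surjective ν := ⟨fun y => (show y ∈ Set.range ν from by
    rw [← ν.isClosedMap.isClosed_range.closure_eq, ν.denseRange.closure_range]; trivial)⟩
  letI : N.Over (Spec (CommRingCat.of k)) := ⟨ν ≫ f⟩
  haveI : IsProper (N ↘ Spec (CommRingCat.of k)) := inferInstanceAs (IsProper (ν ≫ f))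
  have hdN : topologicalKrullDim N = 1 := CurveBC.topologicalKrullDim_finite_cover ν hdim
  have hnN : ∀ x : N, IsClosed ({x} : Set N) → IsIntegrallyClosed (N.presheaf.stalk x) := fun x _ =>
    haveI := CurveRes.regular_normalization C hdim.le x
    RegLoc6.isIntegrallyClosed_of_isRegularLocalRing _
  -- the function field of the normalization embeds
  let W : N.Opens := ν ⁻¹ᵁ U
  haveI : IsIso (ν ∣_ U) := hiso
  let j : W.toScheme ⟶ C := (ν ∣_ U) ≫ U.ι
  have hWne : Nonempty W := ⟨inv (ν ∣_ U) ⟨hU.nonempty.some, hU.nonempty.some_mem⟩⟩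
  haveI : Nonempty W.toScheme := hWne
  haveI : IsIntegral W.toScheme := isIntegral_of_isOpenImmersion W.ι
  have hgH : H (genericPoint (CohB1.ProjSpace 1 k)) = genericPoint C := by
    have h1 : IsGenericPoint (H (genericPoint (CohB1.ProjSpace 1 k))) (closure (H '' Set.univ)) :=
      (genericPoint_spec _).image H.continuous
    rw [Set.image_univ, H.denseRange.closure_range] at h1
    exact h1.eq (genericPoint_spec C)
  obtain ⟨uW, huW, hisoW⟩ := CurveLuroth.exists_pull (ν ≫ f) W.ι (genericPoint_eq_of_isOpenImmersion W.ι)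
  haveI := hisoW inferInstance
  obtain ⟨uj, huj, hisoj⟩ := CurveLuroth.exists_pull f j (genericPoint_eq_of_isOpenImmersion j)
  haveI := hisoj inferInstance
  obtain ⟨uH, huH, -⟩ := CurveLuroth.exists_pull f H hgH
  obtain ⟨θ, hθ⟩ := CurveLuroth.exists_iso_line_field k
  have hj : j ≫ f = W.ι ≫ ν ≫ f := by
    rw [Category.assoc, morphismRestrict_ι_assoc]
  obtain ⟨eN, heN⟩ := CurveLuroth.exists_iso_line_of_embedding k hdN hnN (uW ≫ inv uj ≫ uH ≫ θ.hom) (by
    show CurveLuroth.ffC (ν ≫ f) ≫ _ = _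
    rw [reassoc_of% huW]
    have h1 : CurveLuroth.ffC (W.ι ≫ ν ≫ f) ≫ inv uj = CurveLuroth.ffC f := by
      rw [IsIso.comp_inv_eq, huj, hj]
    rw [reassoc_of% h1, reassoc_of% huH, hH, hθ])
  let V : (CohB1.ProjSpace 1 k).Opens := eN.inv ⁻¹ᵁ W
  refine ⟨U, V, (asIso (ν ∣_ U)).symm ≪≫ (asIso (eN.inv ∣_ W)).symm,
    ⟨⟨hU.nonempty.some, hU.nonempty.some_mem⟩⟩, ?_⟩
  rw [Iso.trans_hom, Iso.symm_hom, Iso.symm_hom, asIso_inv, asIso_inv, Category.assoc,
    IsIso.inv_comp_eq, IsIso.inv_comp_eq, morphismRestrict_ι_assoc, morphismRestrict_ι_assoc,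
    show ν ≫ f = eN.hom ≫ CohB1.ProjSpace.toSpec 1 k from heN.symm, eN.inv_hom_id_assoc]

end Groth.Agent.RatCurveImg
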